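import Cfsg.Agent.CharInd.TI
import Cfsg.Agent.CharInd.GenChar
import Cfsg.Agent.Char.Virtual

/-!
# Families of generalized characters with the inner products of differences
-/

noncomputable section

namespace Cfsg.Agent.CharInd

open scoped ComplexConjugate BigOperators
open Finset

universe u

variable {G : Type u} [Group G] [Fintype G]

/-- A generalized character of norm two and degree zero is a difference of two irreducibles. -/
theorem genChar_norm_two {t : G → ℂ} (ht : Cfsg.IsGeneralizedCharacter G t) (h1 : t 1 = 0)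
    (h2 : Cfsg.classInner t t = 2) :
    ∃ P N : Cfsg.IrrCharacter G, P ≠ N ∧ t = (P : G → ℂ) - (N : G → ℂ) := by
  classical
  obtain ⟨n, hn⟩ := genChar_coef ht
  choose d hd hd1 using fun χ : Cfsg.IrrCharacter G => Cfsg.Agent.Char.irr_one_pos χ.2
  have hsq : ∑ ξ, n ξ * n ξ = 2 := by
    have := (genChar_classInner hn hn).symm.trans h2
    exact_mod_cast this
  have hdeg : ∑ ξ, n ξ * (d ξ : ℤ) = 0 := by
    have h := congrFun hn 1
    rw [h1, Finset.sum_apply] at h
    simp only [Pi.smul_apply, hd1, smul_eq_mul] at h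
    exact_mod_cast h.symm
  let S := Finset.univ.filter fun ξ => n ξ ≠ 0
  have hSsq : ∑ ξ ∈ S, n ξ * n ξ = 2 := by
    rw [← hsq]
    exact Finset.sum_filter_of_ne (fun ξ _ h h0 => h (by rw [h0, zero_mul]))
  have hb : ∀ ξ ∈ S, n ξ * n ξ ≤ 2 := fun ξ hξ =>
    hSsq ▸ Finset.single_le_sum (f := fun ξ => n ξ * n ξ) (fun x _ => mul_self_nonneg _) hξ
  have hone : ∀ ξ ∈ S, n ξ = 1 ∨ n ξ = -1 := by
    intro ξ hξ
    have h0 : n ξ ≠ 0 := (Finset.mem_filter.1 hξ).2
    have := hb ξ hξ
    have h3 : -2 < n ξ := by nlinarith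
    have h4 : n ξ < 2 := by nlinarith
    omega
  have hcard : S.card = 2 := by
    have : ∑ ξ ∈ S, n ξ * n ξ = ∑ _ξ ∈ S, (1 : ℤ) :=
      Finset.sum_congr rfl fun ξ hξ => by rcases hone ξ hξ with h | h <;> rw [h] <;> norm_num
    rw [hSsq, Finset.sum_const, nsmul_one] at this
    exact_mod_cast this.symm
  obtain ⟨a, b, hab, hS⟩ := Finset.card_eq_two.1 hcard
  have ha : a ∈ S := by rw [hS]; simp
  have hb' : b ∈ S := by rw [hS]; simp
  have hd2 : n a * (d a : ℤ) + n b * (d b : ℤ) = 0 := by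
    rw [← Finset.sum_pair (f := fun ξ => n ξ * (d ξ : ℤ)) hab, ← hS]
    rw [← hdeg]
    exact Finset.sum_filter_of_ne (fun ξ _ h h0 => h (by rw [h0, zero_mul]))
  have ht' : t = (n a : ℂ) • (a : G → ℂ) + (n b : ℂ) • (b : G → ℂ) := by
    rw [← Finset.sum_pair (f := fun ξ : Cfsg.IrrCharacter G => (n ξ : ℂ) • (ξ : G → ℂ)) hab, ← hS,
      hn]
    refine (Finset.sum_filter_of_ne (p := fun ξ => n ξ ≠ 0) (fun ξ _ h h0 => h ?_)).symm
    rw [h0, Int.cast_zero, zero_smul]
  have p1 : (0 : ℤ) < d a := by exact_mod_cast hd a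
  have p2 : (0 : ℤ) < d b := by exact_mod_cast hd b
  rcases hone a ha with h | h <;> rcases hone b hb' with h' | h' <;> rw [h, h'] at hd2
  · omega
  · exact ⟨a, b, hab, by rw [ht', h, h']; simp [sub_eq_add_neg]⟩
  · exact ⟨b, a, hab.symm, by rw [ht', h, h']; simp [sub_eq_add_neg, add_comm]⟩
  · omega

/-- Differences with the Gram matrix of `μ i - μ i₀` have that form up to one sign. -/
theorem coherence_gram (n : ℕ) (i₀ : Fin n) (τ : Fin n → G → ℂ) (h0 : τ i₀ = 0)
    (hgen : ∀ i, Cfsg.IsGeneralizedCharacter G (τ i)) (hone : ∀ i, τ i 1 = 0)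
    (hgram : ∀ i j, i ≠ i₀ → j ≠ i₀ →
      Cfsg.classInner (τ i) (τ j) = if i = j then 2 else 1) :
    ∃ ε : ℂ, (ε = 1 ∨ ε = -1) ∧ ∃ μ : Fin n → G → ℂ, (∀ i, Cfsg.IsIrrCharacter G (μ i)) ∧
      Function.Injective μ ∧ ∀ i, τ i = ε • (μ i - μ i₀) := by
  classical
  choose P N hPN hτ using fun i : {i : Fin n // i ≠ i₀} =>
    genChar_norm_two (hgen i) (hone i) (by rw [hgram i i i.2 i.2, if_pos rfl])
  let δ : Cfsg.IrrCharacter G → Cfsg.IrrCharacter G → ℤ := fun x y => if x = y then 1 else 0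
  have hrel : ∀ i j, i ≠ j → (P i = P j ∧ N i ≠ N j) ∨ (N i = N j ∧ P i ≠ P j) := by
    intro i j hij
    have e : Cfsg.classInner (τ i) (τ j) =
        ((δ (P i) (P j) - δ (P i) (N j) - δ (N i) (P j) + δ (N i) (N j) : ℤ) : ℂ) := by
      rw [hτ i, hτ j]
      simp only [Cfsg.Agent.Char.classInner_sub_left, Cfsg.Agent.Char.classInner_sub_right,
        Cfsg.Agent.Char.classInner_irrCharacter, δ]
      push_cast
      ring
    rw [hgram i j i.2 j.2, if_neg (fun h => hij (Subtype.ext h))] at e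
    have e' : δ (P i) (P j) - δ (P i) (N j) - δ (N i) (P j) + δ (N i) (N j) = 1 := by
      exact_mod_cast e.symm
    by_cases h1 : P i = P j <;> by_cases h2 : N i = N j
    · exfalso
      have a1 : P i ≠ N j := h2 ▸ hPN i
      have a2 : N i ≠ P j := h1 ▸ (hPN i).symm
      simp only [δ, if_pos h1, if_pos h2, if_neg a1, if_neg a2] at e'
      omega
    · exact Or.inl ⟨h1, h2⟩
    · exact Or.inr ⟨h2, h1⟩
    · exfalso
      simp only [δ, if_neg h1, if_neg h2] at e'
      split_ifs at e' <;> omega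
  rcases isEmpty_or_nonempty {i : Fin n // i ≠ i₀} with he | ⟨⟨a⟩⟩
  · have hall : ∀ i, i = i₀ := fun i => by
      by_contra h
      exact he.elim ⟨i, h⟩
    refine ⟨1, Or.inl rfl, fun _ _ => 1, fun _ => irr_one_const, fun i j _ => ?_, fun i => ?_⟩
    · rw [hall i, hall j]
    · rw [hall i, h0]; simp
  by_cases hcase : ∀ i, N i = N a
  · have hPinj : Function.Injective P := by
      intro i j h
      by_contra hij
      rcases hrel i j hij with ⟨_, h2⟩ | ⟨_, h2⟩
      · exact h2 ((hcase i).trans (hcase j).symm)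
      · exact h2 h
    refine ⟨1, Or.inl rfl, fun i => if h : i = i₀ then (N a : G → ℂ) else (P ⟨i, h⟩ : G → ℂ),
      fun i => ?_, fun i j => ?_, fun i => ?_⟩
    · dsimp only
      split_ifs with h
      exacts [(N a).2, (P ⟨i, h⟩).2]
    · intro e
      by_cases hi : i = i₀ <;> by_cases hj : j = i₀ <;> simp only [hi, hj, dite_true, dite_false] at e ⊢
      · exact absurd (Subtype.ext e) (by rw [← hcase ⟨j, hj⟩]; exact (hPN _).symm)
      · exact absurd (Subtype.ext e) (by rw [← hcase ⟨i, hi⟩]; exact hPN _)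
      · exact congrArg Subtype.val (hPinj (Subtype.ext e))
    · by_cases h : i = i₀
      · subst h; simp [h0]
      · simp only [h, dite_false, dite_true, one_smul]
        rw [hτ ⟨i, h⟩, hcase ⟨i, h⟩]
  · push Not at hcase
    obtain ⟨b, hb⟩ := hcase
    have hab : a ≠ b := fun h => hb (by rw [h])
    have hPab : P b = P a := by
      rcases hrel b a hab.symm with ⟨h, _⟩ | ⟨h, _⟩
      · exact h
      · exact absurd h hb
    have hP : ∀ i, P i = P a := by
      intro i
      by_cases hia : i = a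
      · rw [hia]
      rcases hrel i a hia with ⟨h, _⟩ | ⟨hN, hPne⟩
      · exact h
      · have hib : i ≠ b := fun h => hPne (by rw [h, hPab])
        rcases hrel i b hib with ⟨h, _⟩ | ⟨h, _⟩
        · exact absurd (h.trans hPab) hPne
        · exact absurd (h.symm.trans hN) hb
    have hNinj : Function.Injective N := by
      intro i j h
      by_contra hij
      rcases hrel i j hij with ⟨_, h2⟩ | ⟨_, h2⟩
      · exact h2 h
      · exact h2 ((hP i).trans (hP j).symm)
    refine ⟨-1, Or.inr rfl, fun i => if h : i = i₀ then (P a : G → ℂ) else (N ⟨i, h⟩ : G → ℂ),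
      fun i => ?_, fun i j => ?_, fun i => ?_⟩
    · dsimp only
      split_ifs with h
      exacts [(P a).2, (N ⟨i, h⟩).2]
    · intro e
      by_cases hi : i = i₀ <;> by_cases hj : j = i₀ <;> simp only [hi, hj, dite_true, dite_false] at e ⊢
      · exact absurd (Subtype.ext e) (by rw [← hP ⟨j, hj⟩]; exact hPN _)
      · exact absurd (Subtype.ext e) (by rw [← hP ⟨i, hi⟩]; exact (hPN _).symm)
      · exact congrArg Subtype.val (hNinj (Subtype.ext e))
    · by_cases h : i = i₀
      · subst h; simp [h0]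
      · simp only [h, dite_false, dite_true]
        rw [hτ ⟨i, h⟩, hP ⟨i, h⟩, neg_one_smul, neg_sub]

end Cfsg.Agent.CharInd
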