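import Cfsg.Agent.CharInd.Monomial
import Cfsg.Agent.Char.Product
import Mathlib.GroupTheory.RegularWreathProduct
import Mathlib.GroupTheory.Abelianization.Defs
import Mathlib.GroupTheory.SpecificGroups.Cyclic

/-!
Regular wreath products of M-groups by groups of prime order are M-groups, and every finite
solvable group embeds in an M-group.
-/

set_option autoImplicit false
set_option linter.style.haveILetI false

noncomputable section

namespace Cfsg.Agent.CharInd.MGroup

open Cfsg.Agent.CharInd

universe u v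

/-- Every irreducible character is induced from a linear character of a subgroup. -/
def IsM (G : Type u) [Group G] [Fintype G] : Prop :=
  ∀ χ : G → ℂ, Cfsg.IsIrrCharacter G χ →
    ∃ (H : Subgroup G) (lam : H →* ℂˣ), χ = Cfsg.indFun H (fun h => (lam h : ℂ))

section Equiv

variable {G : Type u} [Group G] [Fintype G] {K : Type u} [Group K] [Fintype K]

theorem indFun_equiv (e : G ≃* K) (H : Subgroup G) (θ : H → ℂ) (k : K) :
    Cfsg.indFun (H.map e.toMonoidHom)
      (fun x => θ ((H.equivMapOfInjective e.toMonoidHom e.injective).symm x)) k =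
      Cfsg.indFun H θ (e.symm k) := by
  classical
  rw [indFun_apply, indFun_apply,
    ← Nat.card_congr (H.equivMapOfInjective e.toMonoidHom e.injective).toEquiv]
  congr 1
  refine (Fintype.sum_equiv e.toEquiv _ _ fun x => ?_).symm
  have hmem : (e x)⁻¹ * k * e x ∈ H.map e.toMonoidHom ↔ x⁻¹ * e.symm k * x ∈ H := by
    rw [show (e x)⁻¹ * k * e x = e (x⁻¹ * e.symm k * x) by simp, Subgroup.mem_map_equiv]
    simp
  show Cfsg.extendByZero H θ (x⁻¹ * e.symm k * x) = Cfsg.extendByZero _ _ ((e x)⁻¹ * k * e x)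
  by_cases h : x⁻¹ * e.symm k * x ∈ H
  · rw [extendByZero_mem H θ h, extendByZero_mem _ _ (hmem.2 h)]
    refine congrArg θ ?_
    rw [MulEquiv.eq_symm_apply]
    refine Subtype.ext ?_
    show e (x⁻¹ * e.symm k * x) = _
    simp
  · rw [extendByZero_notMem H θ h, extendByZero_notMem _ _ (fun h' => h (hmem.1 h'))]

theorem IsM.of_equiv (hG : IsM G) (e : G ≃* K) : IsM K := by
  intro χ hχ
  obtain ⟨H, lam, h⟩ := hG (χ ∘ e) (irr_comp_surjective e.toMonoidHom e.surjective hχ)
  refine ⟨H.map e.toMonoidHom,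
    lam.comp (H.equivMapOfInjective e.toMonoidHom e.injective).symm.toMonoidHom, funext fun k => ?_⟩
  refine Eq.trans ?_ (indFun_equiv e H (fun h => (lam h : ℂ)) k).symm
  have := congrFun h (e.symm k)
  simpa using this

end Equiv

section Pi

variable {M : Type u} [Group M] [Finite M]

/-- Every irreducible character of a power is a product. -/
theorem irr_pi_fin : ∀ (n : ℕ) (θ : (Fin n → M) → ℂ), Cfsg.IsIrrCharacter (Fin n → M) θ →
    ∃ f : Fin n → M → ℂ, (∀ i, Cfsg.IsIrrCharacter M (f i)) ∧ θ = fun x => ∏ i, f i (x i) := by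
  intro n
  induction n with
  | zero =>
    intro θ hθ
    refine ⟨fun i => i.elim0, fun i => i.elim0, funext fun x => ?_⟩
    have h1 : θ 1 = 1 := Cfsg.Agent.Char.irr_degree_one_of_comm
      (fun a b => Subsingleton.elim _ _) hθ
    rw [Subsingleton.elim x 1, h1, Fin.prod_univ_zero]
  | succ n ih =>
    intro θ hθ
    let e : M × (Fin n → M) ≃* (Fin (n + 1) → M) :=
      { toFun := fun y => Fin.cons y.1 y.2
        invFun := fun x => (x 0, Fin.tail x)
        left_inv := fun y => by simp
        right_inv := fun x => Fin.cons_self_tail x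
        map_mul' := fun a b => funext fun i => Fin.cases (by simp) (fun j => by simp) i }
    obtain ⟨a, b, hab⟩ := Cfsg.Agent.Char.exists_irr_prodMul
      (irr_comp_surjective e.toMonoidHom e.surjective hθ)
    obtain ⟨f, hf, hfb⟩ := ih _ b.2
    refine ⟨Fin.cons (a : M → ℂ) f, fun i => Fin.cases a.2 hf i, funext fun x => ?_⟩
    have h := congrFun hab (x 0, Fin.tail x)
    have h' : θ x = (a : M → ℂ) (x 0) * (b : (Fin n → M) → ℂ) (Fin.tail x) := by
      rw [← h]
      show θ x = θ (Fin.cons (x 0) (Fin.tail x))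
      rw [Fin.cons_self_tail]
    rw [h', congrFun hfb, Fin.prod_univ_succ]
    rfl

/-- Every irreducible character of a power is a product. -/
theorem irr_pi {ι : Type u} [Fintype ι] {θ : (ι → M) → ℂ} (hθ : Cfsg.IsIrrCharacter (ι → M) θ) :
    ∃ f : ι → M → ℂ, (∀ i, Cfsg.IsIrrCharacter M (f i)) ∧ θ = fun x => ∏ i, f i (x i) := by
  let ei := Fintype.equivFin ι
  let e : (Fin (Fintype.card ι) → M) ≃* (ι → M) :=
    { toFun := fun x i => x (ei i)
      invFun := fun y j => y (ei.symm j)
      left_inv := fun x => by simp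
      right_inv := fun y => by simp
      map_mul' := fun a b => rfl }
  obtain ⟨f, hf, hfe⟩ := irr_pi_fin _ _ (irr_comp_surjective e.toMonoidHom e.surjective hθ)
  refine ⟨fun i => f (ei i), fun i => hf _, funext fun y => ?_⟩
  have h := congrFun hfe (fun j => y (ei.symm j))
  have h' : θ y = ∏ j, f j (y (ei.symm j)) := by
    rw [← h]
    exact congrArg θ (funext fun i => by simp [e])
  rw [h']
  exact Fintype.prod_equiv ei.symm _ _ fun j => by simp

theorem extendByZero_prod {ι : Type u} [Fintype ι] (H : ι → Subgroup M) (lam : ∀ i, H i →* ℂˣ)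
    (S : Subgroup (ι → M)) (hS : ∀ x, x ∈ S ↔ ∀ i, x i ∈ H i) (Λ : S → ℂ)
    (hΛ : ∀ x : S, Λ x = ∏ i, (lam i ⟨(x : ι → M) i, (hS x).1 x.2 i⟩ : ℂ)) (x : ι → M) :
    Cfsg.extendByZero S Λ x = ∏ i, Cfsg.extendByZero (H i) (fun h => (lam i h : ℂ)) (x i) := by
  by_cases h : x ∈ S
  · rw [extendByZero_mem S Λ h, hΛ]
    exact Finset.prod_congr rfl fun i _ =>
      (extendByZero_mem (H i) (fun h => (lam i h : ℂ)) ((hS x).1 h i)).symm
  · rw [extendByZero_notMem S Λ h]
    rw [hS] at h
    push Not at h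
    obtain ⟨i, hi⟩ := h
    refine (Finset.prod_eq_zero (Finset.mem_univ i) ?_).symm
    exact extendByZero_notMem (H i) _ hi

theorem isM_pi [Fintype M] (hM : IsM M) (ι : Type u) [Fintype ι] [Fintype (ι → M)] :
    IsM (ι → M) := by
  classical
  intro θ hθ
  obtain ⟨f, hf, rfl⟩ := irr_pi hθ
  choose H lam hH using fun i => hM (f i) (hf i)
  let S : Subgroup (ι → M) := Subgroup.pi Set.univ H
  have hS : ∀ x, x ∈ S ↔ ∀ i, x i ∈ H i := fun x => by simp [S, Subgroup.mem_pi]
  let Λ : S →* ℂˣ :=
    { toFun := fun x => ∏ i, lam i ⟨(x : ι → M) i, (hS x).1 x.2 i⟩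
      map_one' := Finset.prod_eq_one fun i _ => map_one (lam i)
      map_mul' := fun x y => by
        rw [← Finset.prod_mul_distrib]
        exact Finset.prod_congr rfl fun i _ =>
          (congrArg (lam i) (Subtype.ext rfl)).trans (map_mul (lam i) ⟨_, (hS _).1 x.2 i⟩ ⟨_, (hS _).1 y.2 i⟩) }
  refine ⟨S, Λ, funext fun x => ?_⟩
  have hcard : Nat.card S = ∏ i, Nat.card (H i) := by
    rw [← Nat.card_pi]
    exact Nat.card_congr
      { toFun := fun x i => ⟨(x : ι → M) i, (hS x).1 x.2 i⟩
        invFun := fun y => ⟨fun i => y i, (hS _).2 fun i => (y i).2⟩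
        left_inv := fun x => rfl
        right_inv := fun y => rfl }
  rw [indFun_apply, hcard, Nat.cast_prod]
  have hΛ : ∀ y : ι → M, Cfsg.extendByZero S (fun h => (Λ h : ℂ)) y =
      ∏ i, Cfsg.extendByZero (H i) (fun h => (lam i h : ℂ)) (y i) :=
    extendByZero_prod H lam S hS _ fun y => by simp [Λ, Units.coe_prod]
  simp only [hΛ, Pi.mul_apply, Pi.inv_apply]
  obtain rfl : (inferInstance : Fintype (ι → M)) = Pi.instFintype := Subsingleton.elim _ _
  rw [← Fintype.prod_sum (fun i m => Cfsg.extendByZero (H i) (fun h => (lam i h : ℂ)) (m⁻¹ * x i * m)),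
    ← Finset.prod_inv_distrib, ← Finset.prod_mul_distrib]
  refine Finset.prod_congr rfl fun i _ => ?_
  rw [hH i, indFun_apply]

end Pi

theorem isM_of_subsingleton {G : Type u} [Group G] [Fintype G] [Subsingleton G] : IsM G := by
  intro χ hχ
  haveI : Group.IsNilpotent G := inferInstance
  exact monomial_of_nilpotent _ G rfl χ hχ

/-- A character with irreducible restriction is irreducible. -/
theorem irr_of_res {G : Type u} [Group G] [Fintype G] (N : Subgroup G) [Fintype N] {φ : G → ℂ}
    (hφ : Cfsg.IsCharacter G φ) (hres : Cfsg.IsIrrCharacter N (fun n : N => φ n)) :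
    Cfsg.IsIrrCharacter G φ := by
  classical
  obtain ⟨a, ha, -⟩ := Cfsg.Agent.Char.isCharacter_exists_coeff hφ
  choose c hc using fun (ξ : Cfsg.IrrCharacter G) (ψ : Cfsg.IrrCharacter N) =>
    Cfsg.Agent.Char.isCharacter_classInner_nat
      (isCharacter_res N (Cfsg.Agent.Char.isCharacter_of_irr ξ.2)) ψ
  have hsum : ∀ ψ : Cfsg.IrrCharacter N,
      Cfsg.classInner (fun n : N => φ n) (ψ : N → ℂ) = ((∑ ξ, a ξ * c ξ ψ : ℕ) : ℂ) := by
    intro ψ
    have hsplit : (fun n : N => φ n) =
        ∑ ξ : Cfsg.IrrCharacter G, (a ξ : ℂ) • fun n : N => (ξ : G → ℂ) n := by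
      funext n
      rw [ha]
      simp [Finset.sum_apply]
    rw [hsplit, Cfsg.Agent.Char.classInner_sum_left]
    simp only [Cfsg.Agent.Char.classInner_smul_left, hc]
    push_cast
    rfl
  set θ : Cfsg.IrrCharacter N := ⟨_, hres⟩
  have hone : ∑ ξ, a ξ * c ξ θ = 1 := by
    have h := hsum θ
    rw [show (θ : N → ℂ) = fun n : N => φ n from rfl,
      Cfsg.Agent.Char.classInner_irr_self hres] at h
    exact_mod_cast h.symm
  have hpos : ∀ ξ, a ξ ≠ 0 → c ξ θ ≠ 0 := by
    intro ξ hξ hz
    obtain ⟨ψ, e, he, hψ⟩ := Cfsg.Agent.Char.exists_irr_constituent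
      (isCharacter_res N (Cfsg.Agent.Char.isCharacter_of_irr ξ.2))
      (fun h => Cfsg.Agent.Char.irr_one_ne_zero ξ.2 (congrFun h 1))
    have hce : c ξ ψ = e := by
      have := (hc ξ ψ).symm.trans hψ
      exact_mod_cast this
    have hne : θ ≠ ψ := fun h => by rw [← h, hz] at hce; omega
    have h := hsum ψ
    rw [show Cfsg.classInner (fun n : N => φ n) (ψ : N → ℂ) = 0 from
      Cfsg.Agent.Char.classInner_irr_ne hres ψ.2 fun h' => hne (Subtype.ext h')] at h
    have h2 : ∑ η, a η * c η ψ = 0 := by exact_mod_cast h.symm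
    have h3 := (Finset.sum_eq_zero_iff.1 h2) ξ (Finset.mem_univ _)
    rw [hce] at h3
    rcases mul_eq_zero.1 h3 with h4 | h4
    · exact hξ h4
    · omega
  obtain ⟨ξ, -, hξ⟩ := Finset.exists_ne_zero_of_sum_ne_zero (by rw [hone]; exact one_ne_zero)
  have hξ1 : a ξ * c ξ θ = 1 := by
    have h := Finset.single_le_sum (f := fun η => a η * c η θ) (fun _ _ => Nat.zero_le _)
      (Finset.mem_univ ξ)
    simp only [hone] at h
    omega
  have hrest : ∀ η, η ≠ ξ → a η = 0 := by
    intro η hη
    by_contra hn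
    have h : a ξ * c ξ θ + a η * c η θ ≤ 1 := by
      rw [← hone, ← Finset.sum_pair (f := fun η => a η * c η θ) hη.symm]
      exact Finset.sum_le_sum_of_subset (Finset.subset_univ _)
    have := Nat.mul_pos (Nat.pos_of_ne_zero hn) (Nat.pos_of_ne_zero (hpos η hn))
    omega
  have : φ = (ξ : G → ℂ) := by
    funext g
    rw [ha]
    simp only [Finset.sum_apply, Pi.smul_apply, smul_eq_mul]
    rw [Finset.sum_eq_single ξ (fun η _ hη => by rw [hrest η hη, zero_smul])
      (fun h => absurd (Finset.mem_univ ξ) h), Nat.eq_one_of_mul_eq_one_right hξ1, one_smul]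
  rw [this]
  exact ξ.2

section Wreath

variable {M Q : Type u} [Group M] [Fintype M] [Group Q] [Fintype Q]

theorem isM_wreath [Fintype (M ≀ᵣ Q)] (hM : IsM M) (hQ : (Nat.card Q).Prime) : IsM (M ≀ᵣ Q) := by
  classical
  haveI : Fact (Nat.card Q).Prime := ⟨hQ⟩
  intro χ hχ
  set N : Subgroup (M ≀ᵣ Q) := (RegularWreathProduct.rightHom : M ≀ᵣ Q →* Q).ker with hN
  let eN : (Q → M) ≃* N :=
    { toFun := fun f => ⟨⟨f, 1⟩, rfl⟩
      invFun := fun w => w.1.left
      left_inv := fun f => rfl
      right_inv := fun w => Subtype.ext (RegularWreathProduct.ext rfl w.2.symm)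
      map_mul' := fun f g => Subtype.ext (RegularWreathProduct.ext
        (funext fun q => by simp) (by simp)) }
  obtain ⟨θ, e, hθ, he, hres, -⟩ := clifford_exists N hχ
  have h0 : Cfsg.classInner (fun n : N => χ n) θ ≠ 0 := by
    rw [hres, Cfsg.Agent.Char.classInner_smul_left, Cfsg.Agent.Char.classInner_sum_left,
      Finset.sum_eq_single_of_mem θ ((mem_conjClass N).2 ⟨1, (conjChar_one N θ).symm⟩),
      Cfsg.Agent.Char.classInner_irr_self hθ, mul_one]
    · exact_mod_cast he.ne'
    intro φ hφ hne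
    obtain ⟨x, rfl⟩ := (mem_conjClass N).1 hφ
    exact Cfsg.Agent.Char.classInner_irr_ne (conjChar_irr N x hθ) hθ hne
  set T := conjStab N θ with hTdef
  have hNT : N ≤ T := le_conjStab N (Cfsg.Agent.Char.irr_isClassFunction hθ)
  have hNindex : N.index = Nat.card Q := by
    rw [hN, Subgroup.index_ker, MonoidHom.range_eq_top.2 fun q => ⟨RegularWreathProduct.inl q, rfl⟩,
      Subgroup.card_top]
  rcases (Nat.dvd_prime hQ).1 (hNindex ▸ Subgroup.index_dvd_of_le hNT) with hT | hT
  swap
  · -- induced from the base group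
    have hTN : T = N := le_antisymm (Subgroup.relIndex_eq_one.1 (by
      have := Subgroup.relIndex_mul_index hNT
      rw [hT, hNindex] at this
      exact Nat.eq_of_mul_eq_mul_right hQ.pos (this.trans (one_mul _).symm))) hNT
    obtain ⟨ψ, hψ, hψind⟩ := exists_induced_from_stab N hχ hθ h0
    letI := Fintype.ofFinite T
    obtain ⟨H, lam, hH⟩ := ((isM_pi hM Q).of_equiv
      (eN.trans (MulEquiv.subgroupCongr hTN.symm))) ψ hψ
    refine ⟨H.map T.subtype, lam.comp
      (Subgroup.equivMapOfInjective H _ T.subtype_injective).symm.toMonoidHom, ?_⟩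
    rw [← hψind, hH, indFun_indFun_map]
    rfl
  · -- invariant character of the base group
    have hTtop : T = ⊤ := Subgroup.index_eq_one.1 hT
    obtain ⟨f, hf, hfθ⟩ := irr_pi (irr_comp_surjective eN.toMonoidHom eN.surjective hθ)
    have hval : ∀ x : Q → M, θ (eN x) = ∏ q, f q (x q) := fun x => congrFun hfθ x
    have hshift : ∀ (s : Q) (x : Q → M), ∏ q, f q (x (s * q)) = ∏ q, f q (x q) := by
      intro s x
      rw [← hval, ← hval]
      have hw : conjChar N (RegularWreathProduct.inl s : M ≀ᵣ Q)⁻¹ θ = θ :=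
        (mem_conjStab N).1 (show _ ∈ T by rw [hTtop]; exact Subgroup.mem_top _)
      have h1 : eN (fun q => x (s * q)) = ⟨(RegularWreathProduct.inl s)⁻¹ * (eN x : M ≀ᵣ Q) *
          RegularWreathProduct.inl s, by
            simpa using (inferInstance : N.Normal).conj_mem _ (eN x).2
              (RegularWreathProduct.inl s)⁻¹⟩ :=
        Subtype.ext (RegularWreathProduct.ext (funext fun q => by simp [eN]) (by simp [eN]))
      conv_rhs => rw [← hw, conjChar_apply]
      rw [h1]
      simp only [inv_inv]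
    -- all factors are equal
    set ψ := f 1 with hψ
    have heq : ∀ b : Q, f b = ψ := by
      intro b
      choose d hd hd' using fun q => Cfsg.Agent.Char.irr_one_pos (hf q)
      have key : ∀ m : M, f b m * (d 1 : ℂ) = ψ m * (d b : ℂ) := by
        intro m
        have h := hshift b⁻¹ (Pi.mulSingle 1 m)
        have hl : ∏ q, f q ((Pi.mulSingle 1 m : Q → M) (b⁻¹ * q)) =
            f b m * ∏ q ∈ Finset.univ.erase b, (d q : ℂ) := by
          rw [← Finset.mul_prod_erase _ _ (Finset.mem_univ b), inv_mul_cancel, Pi.mulSingle_eq_same]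
          congr 1
          refine Finset.prod_congr rfl fun q hq => ?_
          rw [Pi.mulSingle_eq_of_ne, hd']
          intro hc
          exact (Finset.mem_erase.1 hq).1 (inv_mul_eq_one.1 hc).symm
        have hr : ∏ q, f q ((Pi.mulSingle 1 m : Q → M) q) =
            f 1 m * ∏ q ∈ Finset.univ.erase 1, (d q : ℂ) := by
          rw [← Finset.mul_prod_erase _ _ (Finset.mem_univ (1 : Q)), Pi.mulSingle_eq_same]
          congr 1
          refine Finset.prod_congr rfl fun q hq => ?_
          rw [Pi.mulSingle_eq_of_ne (Finset.mem_erase.1 hq).1, hd']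
        rw [hl, hr] at h
        have hb : (d b : ℂ) * ∏ q ∈ Finset.univ.erase b, (d q : ℂ) = ∏ q, (d q : ℂ) :=
          Finset.mul_prod_erase _ (fun q => (d q : ℂ)) (Finset.mem_univ b)
        have h1 : (d 1 : ℂ) * ∏ q ∈ Finset.univ.erase 1, (d q : ℂ) = ∏ q, (d q : ℂ) :=
          Finset.mul_prod_erase _ (fun q => (d q : ℂ)) (Finset.mem_univ (1 : Q))
        have hP : ∏ q, (d q : ℂ) ≠ 0 :=
          Finset.prod_ne_zero_iff.2 fun q _ => by exact_mod_cast (hd q).ne'
        refine mul_left_cancel₀ hP ?_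
        calc (∏ q, (d q : ℂ)) * (f b m * (d 1 : ℂ))
            = (f b m * ∏ q ∈ Finset.univ.erase b, (d q : ℂ)) * ((d 1 : ℂ) * (d b : ℂ)) := by
              rw [← hb]; ring
          _ = (ψ m * ∏ q ∈ Finset.univ.erase 1, (d q : ℂ)) * ((d 1 : ℂ) * (d b : ℂ)) := by rw [h]
          _ = _ := by rw [← h1]; ring
      have hfun : (d 1 : ℂ) • f b = (d b : ℂ) • ψ := funext fun m => by
        simp only [Pi.smul_apply, smul_eq_mul]
        rw [mul_comm, key, mul_comm]
      by_contra hne
      have h := congrArg (fun g => Cfsg.classInner g ψ) hfun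
      simp only [Cfsg.Agent.Char.classInner_smul_left, Cfsg.Agent.Char.classInner_irr_ne (hf b) (hf 1) hne,
        hψ, Cfsg.Agent.Char.classInner_irr_self (hf 1), mul_zero, mul_one] at h
      exact (hd b).ne' (by exact_mod_cast h.symm)
    obtain ⟨H, lam, hH⟩ := hM ψ (hf 1)
    let S : Subgroup (M ≀ᵣ Q) :=
      { carrier := {w | ∀ q, w.left q ∈ H}
        one_mem' := fun q => H.one_mem
        mul_mem' := fun {a b} ha hb q => H.mul_mem (ha q) (hb _)
        inv_mem' := fun {a} ha q => H.inv_mem (ha _) }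
    let Λ : S →* ℂˣ :=
      { toFun := fun w => ∏ q, lam ⟨w.1.left q, w.2 q⟩
        map_one' := Finset.prod_eq_one fun q _ => map_one lam
        map_mul' := fun a b => by
          have h : ∏ q, lam ⟨b.1.left q, b.2 q⟩ =
              ∏ q, lam ⟨b.1.left (a.1.right⁻¹ * q), b.2 _⟩ :=
            (Fintype.prod_equiv (Equiv.mulLeft a.1.right⁻¹) _ _ fun q => rfl).symm
          rw [h, ← Finset.prod_mul_distrib]
          exact Finset.prod_congr rfl fun q _ => map_mul lam ⟨_, a.2 q⟩ ⟨_, b.2 _⟩ }
    set ξ := Cfsg.indFun S (fun h => (Λ h : ℂ)) with hξ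
    have hext : ∀ w : M ≀ᵣ Q, Cfsg.extendByZero S (fun h => (Λ h : ℂ)) w =
        ∏ q, Cfsg.extendByZero H (fun h => (lam h : ℂ)) (w.left q) := by
      intro w
      by_cases h : w ∈ S
      · rw [extendByZero_mem S _ h]
        show ((∏ q, lam ⟨w.left q, h q⟩ : ℂˣ) : ℂ) = _
        rw [Units.coe_prod]
        exact Finset.prod_congr rfl fun q _ =>
          (extendByZero_mem H (fun h => (lam h : ℂ)) (h q)).symm
      · rw [extendByZero_notMem S _ h]
        obtain ⟨q, hq⟩ := not_forall.1 (show ¬ ∀ q, w.left q ∈ H from h)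
        refine (Finset.prod_eq_zero (Finset.mem_univ q) ?_).symm
        exact extendByZero_notMem H _ hq
    have hScard : Nat.card S = Nat.card H ^ Nat.card Q * Nat.card Q := by
      rw [← Nat.card_fun, ← Nat.card_prod]
      exact Nat.card_congr
        { toFun := fun w => (fun q => ⟨w.1.left q, w.2 q⟩, w.1.right)
          invFun := fun y => ⟨⟨fun q => (y.1 q : M), y.2⟩, fun q => (y.1 q).2⟩
          left_inv := fun w => rfl
          right_inv := fun y => rfl }
    have hξN : ∀ x : Q → M, ξ (eN x : M ≀ᵣ Q) = θ (eN x) := by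
      intro x
      rw [hval, hξ, indFun_apply,
        ← Equiv.sum_comp (RegularWreathProduct.equivProd M Q).symm, Fintype.sum_prod_type,
        Finset.sum_comm]
      set F : Q → M → ℂ := fun k m =>
        Cfsg.extendByZero H (fun h => (lam h : ℂ)) (m⁻¹ * x k * m) with hF
      have hterm : ∀ (s : Q) (g : Q → M), Cfsg.extendByZero S (fun h => (Λ h : ℂ))
          (((RegularWreathProduct.equivProd M Q).symm (g, s))⁻¹ * (eN x : M ≀ᵣ Q) *
            (RegularWreathProduct.equivProd M Q).symm (g, s)) = ∏ k, F k (g k) := by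
        intro s g
        rw [hext]
        refine Fintype.prod_equiv (Equiv.mulLeft s) _ _ fun q => ?_
        simp [F, eN, RegularWreathProduct.equivProd, mul_assoc]
      simp only [hterm, ← Fintype.prod_sum, Finset.sum_const, Finset.card_univ,
        ← Nat.card_eq_fintype_card, nsmul_eq_mul]
      have hprod : ∏ q, f q (x q) = ∏ q, ((Nat.card H : ℂ)⁻¹ * ∑ m, F q m) :=
        Finset.prod_congr rfl fun q _ => by rw [heq, hH, indFun_apply]
      rw [hprod, Finset.prod_mul_distrib, Finset.prod_const, Finset.card_univ,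
        ← Nat.card_eq_fintype_card, hScard, Nat.cast_mul, Nat.cast_pow, mul_inv, inv_pow,
        mul_assoc, ← mul_assoc ((Nat.card Q : ℂ))⁻¹, inv_mul_cancel₀ natCard_ne_zero, one_mul]
    have hξres : (fun n : N => ξ n) = θ := by
      funext n
      rw [← eN.apply_symm_apply n]
      exact hξN _
    have hξchar : Cfsg.IsCharacter (M ≀ᵣ Q) ξ := isCharacter_indFun S
      (Cfsg.Agent.Char.isCharacter_of_irr (Cfsg.Agent.Char.isIrrCharacter_monoidHom Λ))
    -- linear characters of the top group
    have hQc : ∀ a b : Q, a * b = b * a := by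
      haveI : IsCyclic Q := isCyclic_of_prime_card rfl
      exact fun a b => mul_comm' a b
    choose β hβ using fun b : Cfsg.IrrCharacter Q =>
      Cfsg.Agent.Char.irr_exists_monoidHom_of_comm hQc b.2
    let φ : Cfsg.IrrCharacter Q → M ≀ᵣ Q → ℂ := fun b w => ξ w * (β b w.right : ℂ)
    have hφ : ∀ b, Cfsg.IsIrrCharacter (M ≀ᵣ Q) (φ b) := fun b => by
      refine irr_of_res N (Cfsg.Agent.Char.isCharacter_mul hξchar
        (Cfsg.Agent.Char.isCharacter_of_irr (Cfsg.Agent.Char.isIrrCharacter_monoidHom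
          ((β b).comp RegularWreathProduct.rightHom)))) ?_
      have : (fun n : N => φ b n) = θ := by
        rw [← hξres]
        funext n
        show ξ n * (β b (n : M ≀ᵣ Q).right : ℂ) = _
        rw [show (n : M ≀ᵣ Q).right = 1 from n.2, map_one, Units.val_one, mul_one]
      exact this ▸ hθ
    have hdelta : ∀ q : Q, ∑ b, (β b q : ℂ) = if q = 1 then (Nat.card Q : ℂ) else 0 := by
      intro q
      have h1 : (Representation.leftRegular ℂ Q).character q = ∑ b, (β b q : ℂ) := by
        rw [Cfsg.Agent.Char.leftRegular_character_eq_sum, Finset.sum_apply]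
        refine Finset.sum_congr rfl fun b _ => ?_
        rw [Pi.smul_apply, hβ b, map_one, Units.val_one, one_smul]
        exact hβ b q
      rw [← h1, Cfsg.Agent.Char.leftRegular_character]
    have hsum : ∑ b, Cfsg.classInner χ (φ b) ≠ 0 := by
      have h1 : ∀ w : M ≀ᵣ Q, ∑ b, starRingEnd ℂ (φ b w) =
          starRingEnd ℂ (ξ w) * if w.right = 1 then (Nat.card Q : ℂ) else 0 := by
        intro w
        rw [← map_sum, ← Finset.mul_sum, hdelta, map_mul]
        split_ifs <;> simp
      have h2 : ∑ b, Cfsg.classInner χ (φ b) = (Nat.card (M ≀ᵣ Q) : ℂ)⁻¹ * ((Nat.card Q : ℂ) *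
          ((Nat.card N : ℂ) * Cfsg.classInner (fun n : N => χ n) θ)) := by
        simp only [Cfsg.classInner, ← Finset.mul_sum]
        congr 1
        rw [Finset.sum_comm]
        simp only [← Finset.mul_sum, h1]
        rw [mul_inv_cancel_left₀ natCard_ne_zero, ← hξres, Finset.mul_sum]
        simp only [mul_ite, mul_zero]
        rw [← Finset.sum_filter]
        refine Finset.sum_bij' (fun w hw => ⟨w, (Finset.mem_filter.1 hw).2⟩) (fun n _ => n.1)
          (fun _ _ => Finset.mem_univ _) (fun n _ => Finset.mem_filter.2 ⟨Finset.mem_univ _, n.2⟩)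
          (fun _ _ => rfl) (fun _ _ => rfl) fun w hw => ?_
        show χ w * (starRingEnd ℂ (ξ w) * (Nat.card Q : ℂ)) =
          (Nat.card Q : ℂ) * (χ w * starRingEnd ℂ (ξ w))
        ring
      rw [h2]
      exact mul_ne_zero (inv_ne_zero natCard_ne_zero)
        (mul_ne_zero natCard_ne_zero (mul_ne_zero natCard_ne_zero h0))
    obtain ⟨b, -, hb⟩ := Finset.exists_ne_zero_of_sum_ne_zero hsum
    have hχb : χ = φ b := by
      by_contra hne
      exact hb (Cfsg.Agent.Char.classInner_irr_ne hχ (hφ b) hne)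
    refine ⟨S, Λ * ((β b).comp (RegularWreathProduct.rightHom.comp S.subtype)), ?_⟩
    rw [hχb]
    funext w
    show ξ w * (β b w.right : ℂ) = _
    rw [hξ, indFun_apply, indFun_apply, mul_assoc, Finset.sum_mul]
    congr 1
    refine Finset.sum_congr rfl fun x _ => ?_
    by_cases hx : x⁻¹ * w * x ∈ S
    · rw [extendByZero_mem S _ hx, extendByZero_mem S _ hx]
      show _ = ((Λ ⟨_, hx⟩ * β b (x⁻¹ * w * x).right : ℂˣ) : ℂ)
      rw [Units.val_mul, RegularWreathProduct.mul_right, RegularWreathProduct.mul_right,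
        RegularWreathProduct.inv_right, hQc x.right⁻¹ w.right, inv_mul_cancel_right]
    · rw [extendByZero_notMem S _ hx, extendByZero_notMem S _ hx, zero_mul]

end Wreath

/-- The embedding of an extension into a wreath product. -/
theorem exists_wreath_embedding {G : Type u} [Group G] (N : Subgroup G) [N.Normal] :
    ∃ F : G →* N ≀ᵣ (G ⧸ N), Function.Injective F := by
  let t : G ⧸ N → G := Quotient.out
  have ht : ∀ q : G ⧸ N, ((t q : G) : G ⧸ N) = q := fun q => QuotientGroup.out_eq' q
  have hmem : ∀ (g : G) (k : G ⧸ N), (t k)⁻¹ * g * t ((g : G ⧸ N)⁻¹ * k) ∈ N := by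
    intro g k
    rw [← QuotientGroup.eq_one_iff, QuotientGroup.mk_mul, QuotientGroup.mk_mul,
      QuotientGroup.mk_inv, ht, ht]
    group
  refine ⟨{ toFun := fun g => ⟨fun k => ⟨_, hmem g k⟩, (g : G ⧸ N)⟩
            map_one' := ?_
            map_mul' := ?_ }, ?_⟩
  · refine RegularWreathProduct.ext (funext fun k => Subtype.ext ?_) rfl
    show (t k)⁻¹ * 1 * t ((1 : G ⧸ N)⁻¹ * k) = 1
    rw [inv_one, one_mul, mul_one, inv_mul_cancel]
  · intro g h
    refine RegularWreathProduct.ext (funext fun k => Subtype.ext ?_) rfl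
    show (t k)⁻¹ * (g * h) * t (((g * h : G) : G ⧸ N)⁻¹ * k) =
      ((t k)⁻¹ * g * t ((g : G ⧸ N)⁻¹ * k)) *
        ((t ((g : G ⧸ N)⁻¹ * k))⁻¹ * h * t ((h : G ⧸ N)⁻¹ * ((g : G ⧸ N)⁻¹ * k)))
    rw [QuotientGroup.mk_mul, mul_inv_rev, mul_assoc ((h : G ⧸ N))⁻¹]
    group
  · rw [injective_iff_map_eq_one]
    intro g hg
    have hr : (g : G ⧸ N) = 1 := congrArg RegularWreathProduct.right hg
    have hl : (t 1)⁻¹ * g * t ((g : G ⧸ N)⁻¹ * 1) = 1 :=
      congrArg (fun w : N ≀ᵣ (G ⧸ N) => ((w.left 1 : N) : G)) hg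
    rw [hr, inv_one, one_mul, mul_eq_one_iff_eq_inv] at hl
    exact (mul_eq_left.1 hl)

/-- A nontrivial finite abelian group has a subgroup of prime index. -/
theorem exists_index_prime (A : Type u) [CommGroup A] [Finite A] [Nontrivial A] :
    ∃ K : Subgroup A, K.index.Prime := by
  obtain ⟨K, hK⟩ := (Finite.to_isCoatomic (α := Subgroup A)).eq_top_or_exists_le_coatom
    (⊥ : Subgroup A) |>.resolve_left bot_ne_top
  haveI : Nontrivial (A ⧸ K) := QuotientGroup.nontrivial_iff.2 hK.1.1
  obtain ⟨p, hp, hd⟩ := Nat.exists_prime_and_dvd (Finite.one_lt_card (α := A ⧸ K)).ne'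
  haveI : Fact p.Prime := ⟨hp⟩
  obtain ⟨x, hx⟩ := exists_prime_orderOf_dvd_card' p hd
  obtain ⟨a, rfl⟩ := QuotientGroup.mk_surjective x
  have hlt : K < (Subgroup.zpowers (a : A ⧸ K)).comap (QuotientGroup.mk' K) := by
    refine lt_of_le_of_ne (fun k hk => ?_) fun h => ?_
    · rw [Subgroup.mem_comap, QuotientGroup.mk'_apply, (QuotientGroup.eq_one_iff k).2 hk]
      exact Subgroup.one_mem _
    · have ha : a ∈ K := by
        rw [h]
        exact Subgroup.mem_zpowers _
      rw [(QuotientGroup.eq_one_iff a).2 ha, orderOf_one] at hx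
      exact hp.ne_one hx.symm
  have htop : Subgroup.zpowers (a : A ⧸ K) = ⊤ :=
    Subgroup.comap_injective (QuotientGroup.mk'_surjective K)
      ((hK.1.2 _ hlt).trans (Subgroup.comap_top _).symm)
  refine ⟨K, ?_⟩
  have hc := Nat.card_zpowers (a : A ⧸ K)
  rw [htop, Subgroup.card_top, hx] at hc
  rw [Subgroup.index, hc]
  exact hp

/-- Every finite solvable group embeds in a finite M-group. -/
theorem exists_embedding : ∀ (n : ℕ) (G : Type u) [Group G] [Finite G], Nat.card G = n →
    Group.IsSolvable G →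
    ∃ (M : Type u) (_ : Group M) (_ : Fintype M), IsM M ∧ ∃ f : G →* M, Function.Injective f := by
  intro n
  induction n using Nat.strong_induction_on with
  | _ n ih =>
    intro G _ _ hn hsol
    by_cases h1 : Subsingleton G
    · letI := Fintype.ofFinite G
      exact ⟨G, inferInstance, inferInstance, isM_of_subsingleton, MonoidHom.id G,
        Function.injective_id⟩
    haveI : Nontrivial G := not_subsingleton_iff_nontrivial.1 h1
    have hlt : commutator G < ⊤ := Group.IsSolvable.commutator_lt_top_of_nontrivial G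
    haveI : Nontrivial (Abelianization G) :=
      (QuotientGroup.nontrivial_iff).2 hlt.ne
    obtain ⟨N, hNn, hNp⟩ : ∃ N : Subgroup G, N.Normal ∧ N.index.Prime := by
      obtain ⟨K, hK⟩ := exists_index_prime (Abelianization G)
      exact ⟨K.comap Abelianization.of, inferInstance, by
        rw [Subgroup.index_comap_of_surjective K (show Function.Surjective (Abelianization.of (G := G))
          from QuotientGroup.mk_surjective)]; exact hK⟩
    haveI := hNn
    have hcard : Nat.card N < n := by
      rw [← hn, ← N.index_mul_card]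
      exact lt_mul_of_one_lt_left Nat.card_pos hNp.one_lt
    obtain ⟨M, _, _, hM, f, hf⟩ := ih _ hcard N rfl inferInstance
    letI := Fintype.ofFinite (G ⧸ N)
    letI := Fintype.ofFinite (M ≀ᵣ (G ⧸ N))
    obtain ⟨F, hF⟩ := exists_wreath_embedding N
    let L : N ≀ᵣ (G ⧸ N) →* M ≀ᵣ (G ⧸ N) :=
      { toFun := fun w => ⟨fun k => f (w.left k), w.right⟩
        map_one' := RegularWreathProduct.ext (funext fun _ => map_one f) rfl
        map_mul' := fun a b => RegularWreathProduct.ext (funext fun _ => map_mul f _ _) rfl }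
    have hL : Function.Injective L := fun a b h => RegularWreathProduct.ext
      (funext fun k => hf (congrFun (congrArg RegularWreathProduct.left h) k))
      (show a.right = b.right from congrArg (fun w : M ≀ᵣ (G ⧸ N) => w.right) h)
    exact ⟨M ≀ᵣ (G ⧸ N), inferInstance, inferInstance,
      isM_wreath hM hNp, L.comp F, hL.comp hF⟩

end Cfsg.Agent.CharInd.MGroup
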